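/-
Matrices over the field of two elements given by rows of bits.
-/
import Cfsg.Agent.Lib.Chev.E6Fi22.Data
import Cfsg.Agent.Lib.Chev.OfCheck
import Cfsg.Agent.Lib.Chev.Sparse
import Mathlib.LinearAlgebra.Matrix.GeneralLinearGroup.Defs
import Mathlib.Algebra.Field.ZMod
import Mathlib.Data.Matrix.Basic
import Mathlib.Data.List.GetD
import Mathlib.Data.Nat.Bitwise

set_option autoImplicit false
set_option maxRecDepth 100000

namespace CfsgLib.Chev.E6Fi22

open Matrix

/-- A bit as a scalar. -/
def bit (v j : ℕ) : ZMod 2 := if v.testBit j then 1 else 0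

theorem bit_xor (v w j : ℕ) : bit (v ^^^ w) j = bit v j + bit w j := by
  simp only [bit, Nat.testBit_xor]
  cases v.testBit j <;> cases w.testBit j <;> decide

theorem bit_zero (j : ℕ) : bit 0 j = 0 := by simp [bit]

theorem bit_mod_mul (v row j : ℕ) : bit (v % 2 * row) j = bit v 0 * bit row j := by
  rcases Nat.mod_two_eq_zero_or_one v with h | h <;> simp [bit, h, Nat.testBit_zero]

/-- The vector of a number. -/
def vec (v : ℕ) : Fin 78 → ZMod 2 := fun j => bit v j

/-- The matrix of rows. -/
def mat (rows : List ℕ) : Matrix (Fin 78) (Fin 78) (ZMod 2) := fun i j => bit (rows.getD i 0) j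

/-- A vector times the matrix of rows. -/
noncomputable def appD (rows : List ℕ) : ℕ → ℕ :=
  List.rec (motive := fun _ => ℕ → ℕ) (fun _ => nat_lit 0)
    (fun row _ acc v => force v fun w => Nat.xor (Nat.mul (Nat.mod w (nat_lit 2)) row) (acc (Nat.div w (nat_lit 2)))) rows

theorem appD_cons (row : ℕ) (rows : List ℕ) (v : ℕ) :
    appD (row :: rows) v = (v % 2 * row) ^^^ appD rows (v / 2) := by
  show force v (fun w => Nat.xor (Nat.mul (Nat.mod w 2) row) (appD rows (Nat.div w 2))) = _
  rw [force_eq]
  rfl

theorem bit_appD : ∀ (rows : List ℕ) (v j : ℕ),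
    bit (appD rows v) j = ∑ i : Fin rows.length, bit v i * bit rows[i] j
  | [], v, j => by simp [appD, bit]
  | row :: rows, v, j => by
    rw [appD_cons, bit_xor, bit_mod_mul, bit_appD rows]
    simp only [List.length_cons]
    rw [Fin.sum_univ_succ]
    congr 1
    refine Finset.sum_congr rfl fun i _ => ?_
    simp [bit, Nat.testBit_succ]

theorem vec_app {rows : List ℕ} (h : rows.length = 78) (v : ℕ) : vec v ᵥ* mat rows = vec (appD rows v) := by
  funext j
  show ∑ i : Fin 78, bit v i * bit (rows.getD i 0) j = bit (appD rows v) j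
  rw [bit_appD, ← Equiv.sum_comp (finCongr h)]
  refine Finset.sum_congr rfl fun i _ => ?_
  simp

/-- The image of a vector under a word in the matrices of a table. -/
noncomputable def runW (tbl : List (List ℕ)) (w : List ℕ) : ℕ → ℕ :=
  List.rec (motive := fun _ => ℕ → ℕ) (fun v => v)
    (fun x _ acc v => force (appD (tbl.getD x []) v) fun u => acc u) w

/-- The product of a word. -/
noncomputable def evalW (tbl : List (List ℕ)) (w : List ℕ) : Matrix (Fin 78) (Fin 78) (ZMod 2) :=
  (w.map fun x => mat (tbl.getD x [])).prod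

/-- All entries of a table are matrices of 78 rows. -/
def tblOK (tbl : List (List ℕ)) : Prop := ∀ x < tbl.length, (tbl.getD x []).length = 78

theorem vec_run {tbl : List (List ℕ)} (ht : tblOK tbl) : ∀ (w : List ℕ), (∀ x ∈ w, x < tbl.length) → ∀ v,
    vec v ᵥ* evalW tbl w = vec (runW tbl w v)
  | [], _, v => by simp [evalW, runW]
  | x :: w, h, v => by
    rw [evalW, List.map_cons, List.prod_cons, ← Matrix.vecMul_vecMul, vec_app (ht x (h x List.mem_cons_self)), ← evalW,
      vec_run ht w (fun a ha => h a (List.mem_cons_of_mem _ ha))]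
    show _ = vec (force (appD (tbl.getD x []) v) fun u => runW tbl w u)
    rw [force_eq]

theorem vec_basis (i : Fin 78) : vec (2 ^ (i : ℕ)) = Pi.single i 1 := by
  funext j
  show bit (2 ^ (i : ℕ)) j = _
  rw [bit, Nat.testBit_two_pow]
  by_cases h : j = i
  · subst h; simp
  · rw [if_neg (by simpa using fun e => h (Fin.ext e).symm), Pi.single_eq_of_ne h]

theorem mat_row (rows : List ℕ) (i : Fin 78) : mat rows i = vec (rows.getD i 0) := rfl

theorem ext_rows {M N : Matrix (Fin 78) (Fin 78) (ZMod 2)}
    (h : ∀ i : Fin 78, vec (2 ^ (i : ℕ)) ᵥ* M = vec (2 ^ (i : ℕ)) ᵥ* N) : M = N := by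
  funext i
  have := h i
  rwa [vec_basis, Matrix.single_one_vecMul, Matrix.single_one_vecMul] at this

/-- The word has the matrix of rows. -/
noncomputable def okEq (tbl : List (List ℕ)) (w rows : List ℕ) : Bool :=
  allN (nat_lit 78) fun i => Nat.beq (runW tbl w (Nat.pow (nat_lit 2) i)) (rows.getD i 0)

theorem okEq_spec {tbl : List (List ℕ)} (ht : tblOK tbl) {w rows : List ℕ} (hw : ∀ x ∈ w, x < tbl.length)
    (h : okEq tbl w rows = true) : evalW tbl w = mat rows := by
  simp only [okEq, allN_iff] at h
  refine ext_rows fun i => ?_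
  rw [vec_run ht w hw, vec_basis, Matrix.single_one_vecMul]
  exact congrArg vec (Nat.eq_of_beq_eq_true (h i i.2))

/-- The word is the identity. -/
noncomputable def okOne (tbl : List (List ℕ)) (w : List ℕ) : Bool :=
  allN (nat_lit 78) fun i => force (Nat.pow (nat_lit 2) i) fun e => Nat.beq (runW tbl w e) e

theorem okOne_spec {tbl : List (List ℕ)} (ht : tblOK tbl) {w : List ℕ} (hw : ∀ x ∈ w, x < tbl.length)
    (h : okOne tbl w = true) : evalW tbl w = 1 := by
  simp only [okOne, allN_iff, force_eq] at h
  refine ext_rows fun i => ?_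
  rw [vec_run ht w hw, Matrix.vecMul_one]
  exact congrArg vec (Nat.eq_of_beq_eq_true (h i i.2))

/-- The sum of the words applied to a vector. -/
noncomputable def runSum (tbl : List (List ℕ)) (ws : List (List ℕ)) (v : ℕ) : ℕ :=
  List.rec (nat_lit 0) (fun w _ acc => Nat.xor (runW tbl w v) acc) ws

theorem vec_runSum {tbl : List (List ℕ)} (ht : tblOK tbl) : ∀ (ws : List (List ℕ)),
    (∀ w ∈ ws, ∀ x ∈ w, x < tbl.length) → ∀ v,
    vec v ᵥ* (ws.map (evalW tbl)).sum = vec (runSum tbl ws v)
  | [], _, v => by
    funext j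
    simp [runSum, vec, bit]
  | w :: ws, h, v => by
    rw [List.map_cons, List.sum_cons, Matrix.vecMul_add, vec_run ht w (h w List.mem_cons_self),
      vec_runSum ht ws fun a ha => h a (List.mem_cons_of_mem _ ha)]
    funext j
    show bit _ j + bit _ j = bit ((runW tbl w v) ^^^ runSum tbl ws v) j
    rw [bit_xor]

end CfsgLib.Chev.E6Fi22
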