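/-
Sparse operations on pairs of bit vectors and the check of the table of root elements.
-/
import Cfsg.Agent.Lib.Chev.E6Fi22.Bits
import Cfsg.Agent.Lib.Chev.DataE6

set_option autoImplicit false
set_option maxRecDepth 100000

namespace CfsgLib.Chev.E6Fi22

/-- A sparse entry times a pair of bit vectors. -/
noncomputable def stepS (e : ℕ × ℕ × ℕ) (v acc : ℕ × ℕ) : ℕ × ℕ :=
  force (Nat.mod (Nat.div v.1 (Nat.pow (nat_lit 2) e.1)) (nat_lit 2)) fun a =>
  force (Nat.mod (Nat.div v.2 (Nat.pow (nat_lit 2) e.1)) (nat_lit 2)) fun b =>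
  force (Nat.mod e.2.2 (nat_lit 2)) fun c =>
  force (Nat.mod (Nat.div e.2.2 (nat_lit 2)) (nat_lit 2)) fun d =>
  force (Nat.pow (nat_lit 2) e.2.1) fun P =>
    (Nat.xor (Nat.mul (Nat.mod (Nat.add (Nat.mul a c) (Nat.mul b d)) (nat_lit 2)) P) acc.1,
     Nat.xor (Nat.mul (Nat.mod (Nat.add (Nat.add (Nat.mul a d) (Nat.mul b c)) (Nat.mul b d)) (nat_lit 2)) P) acc.2)

/-- A pair of bit vectors times a sparse matrix. -/
noncomputable def appS (L : List (ℕ × ℕ × ℕ)) (v : ℕ × ℕ) : ℕ × ℕ :=
  List.rec (nat_lit 0, nat_lit 0) (fun e _ acc => stepS e v acc) L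

/-- The entries of a root. -/
noncomputable def rootEntries (r : ℕ) : List (ℕ × ℕ × ℕ) :=
  List.rec [] (fun e _ acc => bif Nat.beq e.1 r then e.2 else acc) rootTab

/-- The code of the square. -/
noncomputable def sq4 (c : ℕ) : ℕ :=
  bif Nat.beq c (nat_lit 2) then nat_lit 3 else bif Nat.beq c (nat_lit 3) then nat_lit 2 else c

/-- The entries of a root element minus one. -/
noncomputable def rootS (r c : ℕ) : List (ℕ × ℕ × ℕ) :=
  (rootEntries r).map fun e => (e.1, e.2.1, bif Nat.beq e.2.2 (nat_lit 1) then c else sq4 c)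

/-- A pair of bit vectors times a root element. -/
noncomputable def appX (r c : ℕ) (v : ℕ × ℕ) : ℕ × ℕ :=
  (fun u => (Nat.xor v.1 u.1, Nat.xor v.2 u.2)) (appS (rootS r c) v)

/-- A pair of bit vectors times a word in root elements. -/
noncomputable def runX (w : List (ℕ × ℕ)) : ℕ × ℕ → ℕ × ℕ :=
  List.rec (motive := fun _ => ℕ × ℕ → ℕ × ℕ) (fun v => v)
    (fun e _ acc v => (fun u => force u.1 fun a => force u.2 fun b => acc (a, b)) (appX e.1 e.2 v)) w

/-- The number of entries of a given position and degree, modulo two. -/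
noncomputable def cnt (L : List (ℕ × ℕ × ℕ)) (x y k : ℕ) : ℕ :=
  List.rec (nat_lit 0) (fun e _ acc =>
    bif Nat.beq e.1 x && (Nat.beq e.2.1 y && Nat.beq e.2.2 k) then Nat.sub (nat_lit 1) acc else acc) L

/-- The table agrees with a root element. -/
noncomputable def okRoot (r : ℕ) : Bool :=
  ((rootEntries r).all fun e => Nat.blt e.1 78 && (Nat.blt e.2.1 78 && (Nat.beq e.2.2 1 || Nat.beq e.2.2 2))) &&
  allN 78 fun y =>
    (fun L1 L2 L3 => allN 78 fun x =>
      forceZ (Pack.coef x L1 - bif Nat.beq x y then 1 else 0) fun A =>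
      forceZ (Pack.coef x L2 - bif Nat.beq x y then 1 else 0) fun B =>
      forceZ (Pack.coef x L3 - bif Nat.beq x y then 1 else 0) fun C =>
        zeq C (3 * A + B) &&
        (Nat.beq (((A - B) / 2) % 2).natAbs (cnt (rootEntries r) x y 1) &&
         Nat.beq (((A + B) / 2) % 2).natAbs (cnt (rootEntries r) x y 2)))
      (packE6.colX r 1 y) (packE6.colX r (-1) y) (packE6.colX r 2 y)

/-- The roots in the table. -/
def usedRoots : List ℕ := [15, 25, 29, 32, 34, 35, 36, 37, 39, 42, 46, 56]

theorem root_ok0 : okRoot 15 = true := by decide +kernel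
theorem root_ok1 : okRoot 25 = true := by decide +kernel
theorem root_ok2 : okRoot 29 = true := by decide +kernel
theorem root_ok3 : okRoot 32 = true := by decide +kernel
theorem root_ok4 : okRoot 34 = true := by decide +kernel
theorem root_ok5 : okRoot 35 = true := by decide +kernel
theorem root_ok6 : okRoot 36 = true := by decide +kernel
theorem root_ok7 : okRoot 37 = true := by decide +kernel
theorem root_ok8 : okRoot 39 = true := by decide +kernel
theorem root_ok9 : okRoot 42 = true := by decide +kernel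
theorem root_ok10 : okRoot 46 = true := by decide +kernel
theorem root_ok11 : okRoot 56 = true := by decide +kernel

theorem root_ok : ∀ r ∈ usedRoots, okRoot r = true := by
  intro r hr
  simp only [usedRoots, List.mem_cons, List.not_mem_nil, or_false] at hr
  rcases hr with rfl | rfl | rfl | rfl | rfl | rfl | rfl | rfl | rfl | rfl | rfl | rfl
  exacts [root_ok0, root_ok1, root_ok2, root_ok3, root_ok4, root_ok5, root_ok6, root_ok7, root_ok8, root_ok9,
    root_ok10, root_ok11]

end CfsgLib.Chev.E6Fi22
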