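/-
The checks of the bit matrices.
-/
import Cfsg.Agent.Lib.Chev.E6Fi22.Fun
import Cfsg.Agent.Lib.CosetEnum.PresFi22
import Cfsg.Agent.Lib.CosetEnum.Sound
import Mathlib.Tactic.IntervalCases

set_option autoImplicit false
set_option maxRecDepth 100000

namespace CfsgLib.Chev.E6Fi22

open CfsgLib.CosetEnum (presFi22)

theorem sizes : genRows.length = 12 ∧ genWords.length = 12 ∧ invRows.length = 9 ∧ invWords.length = 9 ∧
    spinWords.length = 78 := by decide +kernel

theorem genRows_ok : tblOK genRows := by
  have h : genRows.all (fun r => Nat.beq r.length 78) = true := by decide +kernel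
  intro x hx
  rw [List.getD_eq_getElem _ _ hx]
  exact Nat.eq_of_beq_eq_true (List.all_eq_true.mp h _ (List.getElem_mem hx))

theorem invRows_ok : tblOK invRows := by
  have h : invRows.all (fun r => Nat.beq r.length 78) = true := by decide +kernel
  intro x hx
  rw [List.getD_eq_getElem _ _ hx]
  exact Nat.eq_of_beq_eq_true (List.all_eq_true.mp h _ (List.getElem_mem hx))

theorem small_lengths : algRows.length = 78 ∧ quasiRows.length = 78 ∧ spinRows.length = 78 ∧
    spinInvRows.length = 78 := by decide +kernel

theorem invWords_lt : ∀ k < 9, ∀ x ∈ invWords.getD k [], x < 12 := by decide +kernel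

theorem algTerms_lt : ∀ w ∈ algTerms, ∀ x ∈ w, 1 ≤ x ∧ x < 9 := by decide +kernel

theorem spinWords_lt : ∀ w ∈ spinWords, ∀ x ∈ w, 1 ≤ x ∧ x < 9 := by decide +kernel

theorem genWords_ok : ∀ w ∈ genWords, ∀ e ∈ w, e.1 ∈ [15, 25, 29, 32, 34, 35, 36, 37, 39, 42, 46, 56] ∧ e.2 < 4 := by
  decide +kernel

theorem base_lt : (∀ e ∈ baseTab, e.1 < 78) ∧ (∀ e ∈ baseInvTab, e.1 < 78) := by decide +kernel

/-- Equality of pairs. -/
noncomputable def beq2 (a b : ℕ × ℕ) : Bool := Nat.beq a.1 b.1 && Nat.beq a.2 b.2

theorem beq2_eq {a b : ℕ × ℕ} (h : beq2 a b = true) : a = b := by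
  simp only [beq2, Bool.and_eq_true] at h
  exact Prod.ext (Nat.eq_of_beq_eq_true h.1) (Nat.eq_of_beq_eq_true h.2)

/-- A generator has its matrix on the basis of fixed points. -/
noncomputable def okGen (k : ℕ) : Bool :=
  allN (nat_lit 78) fun i => force (Nat.pow (nat_lit 2) i) fun e =>
    (fun q => beq2 (appS baseTab (runX (genWords.getD k []) (e, nat_lit 0)))
      (appD (genRows.getD k []) q.1, appD (genRows.getD k []) q.2)) (appS baseTab (e, nat_lit 0))

theorem gen_ok0 : okGen 0 = true := by decide +kernel
theorem gen_ok1 : okGen 1 = true := by decide +kernel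
theorem gen_ok2 : okGen 2 = true := by decide +kernel
theorem gen_ok3 : okGen 3 = true := by decide +kernel
theorem gen_ok4 : okGen 4 = true := by decide +kernel
theorem gen_ok5 : okGen 5 = true := by decide +kernel
theorem gen_ok6 : okGen 6 = true := by decide +kernel
theorem gen_ok7 : okGen 7 = true := by decide +kernel
theorem gen_ok8 : okGen 8 = true := by decide +kernel
theorem gen_ok9 : okGen 9 = true := by decide +kernel
theorem gen_ok10 : okGen 10 = true := by decide +kernel
theorem gen_ok11 : okGen 11 = true := by decide +kernel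

theorem gen_ok : ∀ k < 12, okGen k = true := by
  intro k hk
  interval_cases k
  exacts [gen_ok0, gen_ok1, gen_ok2, gen_ok3, gen_ok4, gen_ok5, gen_ok6, gen_ok7, gen_ok8, gen_ok9, gen_ok10,
    gen_ok11]

theorem base_inv : (allN (nat_lit 78) fun i => force (Nat.pow (nat_lit 2) i) fun e =>
    beq2 (appS baseInvTab (appS baseTab (e, nat_lit 0))) (e, nat_lit 0)) = true := by decide +kernel

theorem gen_sq : (allN (nat_lit 12) fun k => okOne genRows [k, k]) = true := by decide +kernel

theorem inv_eq : (allN (nat_lit 9) fun k => okEq genRows (invWords.getD k []) (invRows.getD k [])) = true := by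
  decide +kernel

theorem inv_sq : (allN (nat_lit 9) fun k => okOne invRows [k, k]) = true := by decide +kernel

theorem rels_ok : presFi22.rels.all (fun w => (w.all fun x => Nat.blt x 9) && okOne invRows w) = true := by
  decide +kernel

theorem alg_eq : (allN (nat_lit 78) fun i =>
    Nat.beq (runSum invRows algTerms (Nat.pow (nat_lit 2) i)) (algRows.getD i 0)) = true := by decide +kernel

theorem alg_quasi : (allN (nat_lit 78) fun i =>
    Nat.beq (appD quasiRows (algRows.getD i 0))
      (Nat.xor (Nat.pow (nat_lit 2) i) (Nat.mul (Nat.mod (Nat.div coVec (Nat.pow (nat_lit 2) i)) (nat_lit 2)) kerVec))) =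
    true := by decide +kernel

theorem alg_ker : Nat.beq (appD algRows kerVec) 0 = true := by decide +kernel

theorem spin_eq : (allN (nat_lit 78) fun k =>
    Nat.beq (runW invRows (spinWords.getD k []) kerVec) (spinRows.getD k 0)) = true := by decide +kernel

theorem spin_inv : (allN (nat_lit 78) fun i =>
    Nat.beq (appD spinInvRows (spinRows.getD i 0)) (Nat.pow (nat_lit 2) i)) = true := by decide +kernel

theorem inv_ne : okOne invRows [0] = false := by decide +kernel

end CfsgLib.Chev.E6Fi22
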