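/-
Three classes of absolutely irreducible subgroups with outer automorphism group of exponent two.
-/
import Cfsg.Agent.Lib.Chev.Twist.AutE6

namespace CfsgLib.Chev.E6Fi22

open Cfsg.Lie Matrix Chev T2E6

set_option autoImplicit false
set_option linter.dupNamespace false
set_option linter.unusedSectionVars false
set_option maxRecDepth 100000

variable {K : Type*} [Field K] [Fintype K]

theorem three_of_subgroup (hK : Fintype.card K = 2 ^ 2) (P : Subgroup (twistedE6 K 2))
    (hcent : ∀ Y : GL Cfsg.Lie.chevE6.Idx K, (∀ z ∈ P, Y * (z : GL Cfsg.Lie.chevE6.Idx K) = z * Y) →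
      ∃ a : K, (Y : Matrix Cfsg.Lie.chevE6.Idx Cfsg.Lie.chevE6.Idx K) = a • 1)
    (hout : ∀ α : MulAut P, ∃ h : P, α * α = MulAut.conj h) :
    ∃ H : Fin 3 → Subgroup (twistedE6 K 2), (∀ i, Nonempty ((H i) ≃* P)) ∧
      (∀ i j, i ≠ j → ∀ g : (twistedE6 K 2), (H i).map (MulAut.conj g).toMonoidHom ≠ H j) := by
  have hq : IsPrimePow 2 := Nat.prime_two.isPrimePow
  have hidx : Nat.card (↥(tw hq hK).stableParam ⧸ (coH hq hK).range) = 3 := by
    rw [← Subgroup.index_eq_card, index_range]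
    rfl
  have hfin : Finite (↥(tw hq hK).stableParam ⧸ (coH hq hK).range) := Nat.finite_of_card_ne_zero (by omega)
  let q3 := (Finite.equivFinOfCardEq hidx).symm
  let c : Fin 3 → ↥(tw hq hK).stableParam := fun i => (q3 i).out
  refine ⟨fun i => P.map (dAut hq hK (c i)).toMonoidHom,
    fun i => ⟨((dAut hq hK (c i)).subgroupMap P).symm⟩, ?_⟩
  intro i j hij g hg
  refine hij (q3.injective ?_)
  rw [← QuotientGroup.out_eq' (q3 i), ← QuotientGroup.out_eq' (q3 j), eq_comm, QuotientGroup.eq]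
  show (c j)⁻¹ * c i ∈ _
  set d := (c j)⁻¹ * c i with hd
  have happ : ∀ a b x, dAut hq hK a (dAut hq hK b x) = dAut hq hK (a * b) x := fun a b x =>
    (DFunLike.congr_fun (map_mul (dAut hq hK) a b) x).symm
  set g0 := (dAut hq hK (c j))⁻¹ g with hg0
  let θ : MulAut (twistedE6 K 2) := MulAut.conj g0 * dAut hq hK d
  have hθ : P.map θ.toMonoidHom = P := by
    have e : ∀ x, dAut hq hK (c j) (θ x) = g * dAut hq hK (c i) x * g⁻¹ := fun x => by
      show dAut hq hK (c j) (g0 * dAut hq hK d x * g0⁻¹) = _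
      rw [map_mul, map_mul, map_inv, hg0, MulAut.apply_inv_self, hd, happ, mul_inv_cancel_left]
    refine Subgroup.map_injective (f := (dAut hq hK (c j)).toMonoidHom) (dAut hq hK (c j)).injective ?_
    refine Eq.trans ?_ hg
    rw [Subgroup.map_map, Subgroup.map_map]
    exact congrArg (P.map ·) (MonoidHom.ext e)
  let α : MulAut P := (θ.subgroupMap P).trans (MulEquiv.subgroupCongr hθ)
  have hα : ∀ z : P, ((α z : P) : twistedE6 K 2) = θ z := fun z => rfl
  obtain ⟨h, hh⟩ := hout α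
  set g' := (h : twistedE6 K 2)⁻¹ * (g0 * dAut hq hK d g0) with hg'
  have hfix : ∀ z ∈ P, g' * dAut hq hK (d * d) z * g'⁻¹ = z := fun z hz => by
    have e : θ (θ z) = (h : twistedE6 K 2) * z * (h : twistedE6 K 2)⁻¹ := by
      have := congrArg (Subtype.val) (DFunLike.congr_fun hh ⟨z, hz⟩)
      simpa [hα, MulAut.mul_apply, MulAut.conj_apply] using this
    have e2 : θ (θ z) = g0 * dAut hq hK d g0 * dAut hq hK (d * d) z * (g0 * dAut hq hK d g0)⁻¹ := by
      show g0 * dAut hq hK d (g0 * dAut hq hK d z * g0⁻¹) * g0⁻¹ = _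
      rw [map_mul, map_mul, map_inv, happ]
      group
    rw [e] at e2
    calc g' * dAut hq hK (d * d) z * g'⁻¹
        = (h : twistedE6 K 2)⁻¹ * (g0 * dAut hq hK d g0 * dAut hq hK (d * d) z * (g0 * dAut hq hK d g0)⁻¹) *
            (h : twistedE6 K 2) := by rw [hg']; group
      _ = z := by rw [← e2]; group
  set t := CfsgLib.Chev.chevE6.toAlg.torus (d * d).1 with ht
  set G := (g' : GL Cfsg.Lie.chevE6.Idx K) with hG
  obtain ⟨a, ha⟩ := hcent (G * t) fun z hz => by
    have e : G * (t * (z : GL Cfsg.Lie.chevE6.Idx K) * t⁻¹) * G⁻¹ = z := congrArg Subtype.val (hfix z hz)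
    calc G * t * (z : GL Cfsg.Lie.chevE6.Idx K) = G * (t * z * t⁻¹) * G⁻¹ * (G * t) := by group
      _ = z * (G * t) := by rw [e]
  have hcomm : ∀ x : GL Cfsg.Lie.chevE6.Idx K, G * t * x = x * (G * t) := fun x => Units.ext (by
    rw [Units.val_mul, Units.val_mul x, ha, Matrix.smul_mul, Matrix.mul_smul, Matrix.one_mul, Matrix.mul_one])
  have hconj : dAut hq hK (d * d)⁻¹ * fAut hq hK 1 = MulAut.conj g' := by
    rw [map_one, mul_one]
    refine MulEquiv.ext fun x => Subtype.ext ?_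
    show CfsgLib.Chev.chevE6.toAlg.torus ((d * d)⁻¹ : ↥(tw hq hK).stableParam).1 * (x : GL Cfsg.Lie.chevE6.Idx K) *
      (CfsgLib.Chev.chevE6.toAlg.torus ((d * d)⁻¹ : ↥(tw hq hK).stableParam).1)⁻¹ = G * x * G⁻¹
    rw [Subgroup.coe_inv, map_inv, ← ht, inv_inv,
      show G * (x : GL Cfsg.Lie.chevE6.Idx K) * G⁻¹ = G * t * (t⁻¹ * x * t) * (G * t)⁻¹ by group, hcomm]
    group
  have h2 : d * d ∈ (coH hq hK).range :=
    inv_mem_iff.mp (mem_range_of_inner hq hK _ 1 g' hconj).1
  have h3 : d ^ 3 ∈ (coH hq hK).range := by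
    have := (coH hq hK).range.pow_index_mem d
    rwa [index_range] at this
  have := mul_mem h3 (inv_mem h2)
  rwa [show d ^ 3 * (d * d)⁻¹ = d by rw [pow_succ', pow_two, mul_inv_cancel_right]] at this

end CfsgLib.Chev.E6Fi22
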