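/-
The root elements over the field of four elements on pairs of bit vectors.
-/
import Cfsg.Agent.Lib.Chev.E6Fi22.Fun
import Cfsg.Agent.Lib.Chev.SparseSound
import Cfsg.Agent.Lib.Chev.Inst
import Cfsg.Agent.Lib.Chev.CheckE6
import Cfsg.Prelude.Def_LieTwisted
import Mathlib.LinearAlgebra.Matrix.Reindex

set_option autoImplicit false
set_option linter.unusedSectionVars false
set_option maxRecDepth 100000

namespace CfsgLib.Chev.E6Fi22

open Cfsg.Lie Matrix Chev

theorem enc_lt (x : Cfsg.Lie.chevE6.Idx) : Pack.enc x < 78 := by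
  rcases x with i | u
  · have h6 : Cfsg.Lie.chevE6.rank = 6 := rfl
    have h72 : Cfsg.Lie.chevE6.nroots = 72 := rfl
    have := i.isLt
    show Cfsg.Lie.chevE6.nroots + i.val < 78
    omega
  · have h72 : Cfsg.Lie.chevE6.nroots = 72 := rfl
    have := u.isLt
    show u.val < 78
    omega

/-- The numbering of the coordinates. -/
noncomputable def eI : Cfsg.Lie.chevE6.Idx ≃ Fin 78 :=
  Equiv.ofBijective (fun x => ⟨Pack.enc x, enc_lt x⟩) ((Fintype.bijective_iff_injective_and_card _).mpr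
    ⟨fun a b h => Pack.enc_injective (Fin.mk.inj h), by decide +kernel⟩)

theorem eI_val (x : Cfsg.Lie.chevE6.Idx) : (eI x : ℕ) = Pack.enc x := rfl

variable {K : Type*} [Field K] [CharP K 2] (ω : K)

/-- The scalar of a code. -/
noncomputable def lift2 : ZMod 2 →+* K := ZMod.castHom (dvd_refl 2) K

/-- The value of a code of two bits. -/
noncomputable def val (c : ℕ) : K := lift2 (bit c 0) + ω * lift2 (bit c 1)

/-- The vector of a pair. -/
noncomputable def vecK (v : ℕ × ℕ) : Fin 78 → K := fun j => lift2 (bit v.1 j) + ω * lift2 (bit v.2 j)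

/-- The matrix of sparse entries. -/
noncomputable def toS (L : List (ℕ × ℕ × ℕ)) : Matrix (Fin 78) (Fin 78) K :=
  fun i j => (L.map fun e => if e.1 = (i : ℕ) ∧ e.2.1 = (j : ℕ) then val ω e.2.2 else 0).sum

theorem bit_eq (v x : ℕ) : bit v x = ((v / 2 ^ x % 2 : ℕ) : ZMod 2) := by
  rw [bit, Nat.testBit_eq_decide_div_mod_eq]
  rcases Nat.mod_two_eq_zero_or_one (v / 2 ^ x) with h | h <;> simp [h]

theorem bit_mul_pow (n y j : ℕ) : bit (n % 2 * 2 ^ y) j = if y = j then (n : ZMod 2) else 0 := by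
  rw [← ZMod.natCast_mod n 2]
  rcases Nat.mod_two_eq_zero_or_one n with h | h <;> rw [h] <;> simp [bit, Nat.testBit_two_pow]

variable {ω}

theorem vec_appS (hω : ω * ω = ω + 1) : ∀ (L : List (ℕ × ℕ × ℕ)), (∀ e ∈ L, e.1 < 78) → ∀ v,
    vecK ω v ᵥ* toS ω L = vecK ω (appS L v)
  | [], _, v => by
    funext j
    simp [toS, appS, vecK, bit, Matrix.vecMul, dotProduct]
  | e :: L, h, v => by
    funext j
    have he := h e List.mem_cons_self
    have ih := congrFun (vec_appS hω L (fun a ha => h a (List.mem_cons_of_mem _ ha)) v) j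
    have hs : (vecK ω v ᵥ* toS ω (e :: L)) j =
        (if e.2.1 = (j : ℕ) then vecK ω v ⟨e.1, he⟩ * val ω e.2.2 else 0) + (vecK ω v ᵥ* toS ω L) j := by
      simp only [Matrix.vecMul, dotProduct, toS, List.map_cons, List.sum_cons, mul_add, Finset.sum_add_distrib]
      congr 1
      rw [Finset.sum_eq_single ⟨e.1, he⟩ (fun c _ hc => by
        rw [if_neg fun q => hc (Fin.ext q.1.symm), mul_zero]) (fun q => absurd (Finset.mem_univ _) q)]
      simp
    rw [hs, ih]
    show _ = vecK ω (stepS e v (appS L v)) j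
    simp only [stepS, force_eq, vecK]
    show _ = lift2 (bit ((_ % 2 * 2 ^ e.2.1) ^^^ _) _) + ω * lift2 (bit ((_ % 2 * 2 ^ e.2.1) ^^^ _) _)
    rw [bit_xor, bit_xor, bit_mul_pow, bit_mul_pow]
    by_cases hy : e.2.1 = (j : ℕ)
    · simp only [if_pos hy, map_add, Nat.add_eq, Nat.mul_eq, Nat.cast_add, Nat.cast_mul, map_mul, val]
      simp only [bit_eq, pow_zero, pow_one, Nat.div_one]
      linear_combination (lift2 (((v.2 / 2 ^ e.1 % 2 : ℕ)) : ZMod 2) * lift2 (((e.2.2 / 2 % 2 : ℕ)) : ZMod 2) : K) * hω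
    · simp only [if_neg hy, zero_add]

theorem val_sq (hω : ω * ω = ω + 1) : ∀ c < 4, val ω (sq4 c) = val ω c ^ 2 := by
  intro c hc
  have h2 : (2 : K) = 0 := CharTwo.two_eq_zero
  rcases (by omega : c = 0 ∨ c = 1 ∨ c = 2 ∨ c = 3) with rfl | rfl | rfl | rfl
  · rw [show sq4 0 = 0 from rfl]; simp [val, bit]
  · rw [show sq4 1 = 1 from rfl]; simp [val, bit, Nat.testBit_succ]
  · rw [show sq4 2 = 3 from rfl]
    simp [val, bit, Nat.testBit_succ]
    linear_combination -hω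
  · rw [show sq4 3 = 2 from rfl]
    simp [val, bit, Nat.testBit_succ]
    linear_combination -hω - (ω + 1) * h2

/-- The parity count is the cast count. -/
theorem cnt_cast (x y k : ℕ) : ∀ L : List (ℕ × ℕ × ℕ), cnt L x y k < 2 ∧
    ((cnt L x y k : ℕ) : K) = (L.map fun e => if e.1 = x ∧ e.2.1 = y ∧ e.2.2 = k then (1 : K) else 0).sum
  | [] => by simp [cnt]
  | e :: L => by
    obtain ⟨h1, h2⟩ := cnt_cast x y k L
    show (bif Nat.beq e.1 x && (Nat.beq e.2.1 y && Nat.beq e.2.2 k) then Nat.sub 1 (cnt L x y k) else cnt L x y k) < 2 ∧ _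
    rw [List.map_cons, List.sum_cons, ← h2]
    change _ ∧ ((bif Nat.beq e.1 x && (Nat.beq e.2.1 y && Nat.beq e.2.2 k) then Nat.sub 1 (cnt L x y k) else cnt L x y k : ℕ) : K) = _
    by_cases h : e.1 = x ∧ e.2.1 = y ∧ e.2.2 = k
    · obtain ⟨rfl, rfl, rfl⟩ := h
      simp only [Nat.beq_refl, Bool.and_self, cond_true, true_and, if_true]
      rcases (by omega : cnt L e.1 e.2.1 e.2.2 = 0 ∨ cnt L e.1 e.2.1 e.2.2 = 1) with q | q <;> rw [q] <;>
        simp [CharTwo.add_self_eq_zero]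
    · have : (Nat.beq e.1 x && (Nat.beq e.2.1 y && Nat.beq e.2.2 k)) = false := by
        rw [Bool.eq_false_iff]
        intro q
        simp only [Bool.and_eq_true] at q
        exact h ⟨Nat.eq_of_beq_eq_true q.1, Nat.eq_of_beq_eq_true q.2.1, Nat.eq_of_beq_eq_true q.2.2⟩
      rw [this, cond_false, if_neg h, zero_add]
      exact ⟨h1, rfl⟩

theorem cast_parity {z : ℤ} {n : ℕ} (h : (z % 2).natAbs = n) : (z : K) = (n : K) := by
  have h0 : z % 2 = (n : ℤ) := by omega
  rw [← Int.cast_natCast n, ← h0]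
  conv_lhs => rw [show z = 2 * (z / 2) + z % 2 by omega]
  push_cast
  rw [CharTwo.two_eq_zero, zero_mul, zero_add]

theorem root_mat (hω : ω * ω = ω + 1) (r : Fin Cfsg.Lie.chevE6.nroots) (hr : r.val ∈ usedRoots) (c : ℕ) (hc : c < 4) :
    Matrix.reindexAlgEquiv K K eI (Cfsg.Lie.chevE6.x K r.val (val ω c)) = 1 + toS ω (rootS r.val c) ∧
      ∀ e ∈ rootS r.val c, e.1 < 78 := by
  have h := root_ok r.val hr
  simp only [okRoot, Bool.and_eq_true, List.all_eq_true, allN_iff, forceZ_eq, Bool.or_eq_true] at h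
  obtain ⟨hE, hA⟩ := h
  refine ⟨?_, fun e he => ?_⟩
  swap
  · obtain ⟨e0, he0, rfl⟩ := List.mem_map.mp he
    exact Nat.blt_eq.mp (hE e0 he0).1
  ext i j
  obtain ⟨x, rfl⟩ := eI.surjective i
  obtain ⟨y, rfl⟩ := eI.surjective j
  obtain ⟨⟨hC, h1⟩, h2⟩ := (fun q => ⟨⟨q.1, q.2.1⟩, q.2.2⟩ : ∀ {a b c : Prop}, a ∧ b ∧ c → (a ∧ b) ∧ c)
    (hA (Pack.enc y) (enc_lt y) (Pack.enc x) (enc_lt x))
  set Φ := packE6.toSys Cfsg.Lie.chevE6 (by decide) datumOKE6 tabOKE6 rootsOKE6 with hΦ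
  have hX : CfsgLib.Chev.chevE6.toSys = Φ := rfl
  have hexp : ∀ t : ℤ, Pack.coef (Pack.enc x) (packE6.colX r.val t (Pack.enc y)) =
      (if x = y then 1 else 0) + t * Φ.E ℤ 1 r x y + t ^ 2 * Φ.E ℤ 2 r x y + t ^ 3 * Φ.E ℤ 3 r x y := fun t => by
    rw [packE6.coef_colX (hn := by decide) (hd := datumOKE6) (ht := tabOKE6) (hr := rootsOKE6) r t x y]
    simp only [Sys.X, Matrix.sum_apply, Matrix.smul_apply, smul_eq_mul, Finset.sum_range_succ,
      Finset.sum_range_zero, zero_add, pow_zero, one_mul, pow_one, Sys.E_zero, Matrix.one_apply, ← hΦ]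
  have hxy : (bif Nat.beq (Pack.enc x) (Pack.enc y) then (1 : ℤ) else 0) = if x = y then 1 else 0 := by
    by_cases e : x = y
    · subst e; simp
    · rw [if_neg e, show Nat.beq (Pack.enc x) (Pack.enc y) = false from
        Bool.eq_false_iff.mpr fun q => e (Pack.enc_injective (Nat.eq_of_beq_eq_true q)), cond_false]
  rw [hexp 1, hexp (-1), hexp 2, hxy] at hC
  rw [hexp 1, hexp (-1), hxy] at h1 h2
  set c1 := Φ.E ℤ 1 r x y with hc1
  set c2 := Φ.E ℤ 2 r x y with hc2
  set c3 := Φ.E ℤ 3 r x y with hc3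
  have h3 : c3 = 0 := by
    have := zeq_iff.mp hC
    ring_nf at this
    omega
  have e1 : (c1 : K) = (cnt (rootEntries r.val) (Pack.enc x) (Pack.enc y) 1 : ℕ) := by
    refine cast_parity ?_
    refine Eq.trans (congrArg Int.natAbs (congrArg (· % 2) ?_)) (Nat.eq_of_beq_eq_true h1)
    rw [h3]; ring_nf; omega
  have e2 : (c2 : K) = (cnt (rootEntries r.val) (Pack.enc x) (Pack.enc y) 2 : ℕ) := by
    refine cast_parity ?_
    refine Eq.trans (congrArg Int.natAbs (congrArg (· % 2) ?_)) (Nat.eq_of_beq_eq_true h2)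
    rw [h3]; ring_nf; omega
  rw [Matrix.coe_reindexAlgEquiv, Matrix.reindex_apply, Matrix.submatrix_apply, Equiv.symm_apply_apply,
    Equiv.symm_apply_apply, CfsgLib.Chev.chevE6.toSys.x_eq, hX, Matrix.add_apply, Matrix.one_apply]
  simp only [Sys.X, Matrix.sum_apply, Matrix.smul_apply, smul_eq_mul, Finset.sum_range_succ,
    Finset.sum_range_zero, zero_add, pow_zero, one_mul, pow_one, Sys.E_zero, Matrix.one_apply]
  have hE' : ∀ k, Φ.E K k r x y = ((Φ.E ℤ k r x y : ℤ) : K) := fun k => by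
    rw [← Φ.E_map (Int.castRingHom K) k r, Matrix.map_apply]; rfl
  rw [hE' 1, hE' 2, hE' 3, ← hc1, ← hc2, ← hc3, h3, Int.cast_zero, mul_zero, add_zero, e1, e2,
    (cnt_cast _ _ _ _).2, (cnt_cast _ _ _ _).2, add_assoc]
  congr 1
  · simp [EmbeddingLike.apply_eq_iff_eq]
  rw [toS, rootS, List.map_map, ← List.sum_map_mul_left, ← List.sum_map_mul_left, ← List.sum_map_add]
  refine congrArg List.sum (List.map_congr_left fun e he => ?_)
  simp only [Function.comp_apply, eI_val]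
  by_cases hp : e.1 = Pack.enc x ∧ e.2.1 = Pack.enc y
  · rcases (hE e he).2.2 with q | q
    · simp [hp.1, hp.2, Nat.eq_of_beq_eq_true q]
    · simp [hp.1, hp.2, Nat.eq_of_beq_eq_true q, val_sq hω c hc, show Nat.beq 2 1 = false from rfl]
  · have hp' : ∀ k, ¬ (e.1 = Pack.enc x ∧ e.2.1 = Pack.enc y ∧ e.2.2 = k) := fun k q => hp ⟨q.1, q.2.1⟩
    simp [hp, hp']

theorem vec_xor (v u : ℕ × ℕ) : vecK ω (v.1 ^^^ u.1, v.2 ^^^ u.2) = vecK ω v + vecK ω u := by
  funext j
  simp only [vecK, Pi.add_apply, bit_xor, map_add]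
  ring

theorem vec_runX (hω : ω * ω = ω + 1) : ∀ w : List (ℕ × ℕ), (∀ e ∈ w, e.1 ∈ usedRoots ∧ e.2 < 4) → ∀ v,
    vecK ω v ᵥ* Matrix.reindexAlgEquiv K K eI (Cfsg.Lie.chevE6.wordMat K (w.map fun e => (e.1, val ω e.2))) =
      vecK ω (runX w v)
  | [], _, v => by simp [ChevalleyDatum.wordMat, runX]
  | e :: w, h, v => by
    obtain ⟨hr, hc⟩ := h e List.mem_cons_self
    have hlt : e.1 < Cfsg.Lie.chevE6.nroots := by
      have : ∀ r ∈ usedRoots, r < Cfsg.Lie.chevE6.nroots := by decide +kernel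
      exact this _ hr
    obtain ⟨hm, hb⟩ := root_mat (K := K) hω ⟨e.1, hlt⟩ hr e.2 hc
    have hsplit : Cfsg.Lie.chevE6.wordMat K ((e :: w).map fun e => (e.1, val ω e.2)) =
        Cfsg.Lie.chevE6.x K e.1 (val ω e.2) * Cfsg.Lie.chevE6.wordMat K (w.map fun e => (e.1, val ω e.2)) := rfl
    rw [hsplit, map_mul, ← Matrix.vecMul_vecMul, hm, Matrix.vecMul_add, Matrix.vecMul_one, vec_appS hω _ hb,
      ← vec_xor, vec_runX hω w fun a ha => h a (List.mem_cons_of_mem _ ha)]
    show _ = vecK ω ((fun u => force u.1 fun a => force u.2 fun b => runX w (a, b)) (appX e.1 e.2 v))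
    simp only [force_eq]
    rfl

theorem vecK_basis (i : Fin 78) : vecK ω (2 ^ (i : ℕ), 0) = Pi.single i 1 := by
  funext j
  simp only [vecK, bit_zero, map_zero, mul_zero, add_zero]
  have := congrFun (vec_basis i) j
  simp only [vec] at this
  rw [this]
  by_cases h : j = i
  · subst h; simp
  · rw [Pi.single_eq_of_ne h, Pi.single_eq_of_ne h, map_zero]

theorem vecK_bits (v : ℕ × ℕ) {rows : List ℕ} (h : rows.length = 78) :
    vecK ω v ᵥ* (mat rows).map (lift2 (K := K)) = vecK ω (appD rows v.1, appD rows v.2) := by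
  have e : vecK ω v = (fun j => lift2 (vec v.1 j)) + ω • fun j => lift2 (vec v.2 j) := rfl
  have key : ∀ u, (fun j => lift2 (K := K) (vec u j)) ᵥ* (mat rows).map (lift2 (K := K)) =
      fun j => lift2 (vec (appD rows u) j) := fun u => by
    funext j
    rw [← vec_app h u]
    exact (RingHom.map_vecMul (lift2 (K := K)) (mat rows) (vec u) j).symm
  rw [e, Matrix.add_vecMul, Matrix.smul_vecMul, key, key]
  rfl

end CfsgLib.Chev.E6Fi22
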