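/-
The Fischer group Fi22 inside the twisted group of type E6 over the field of four elements.
-/
import Cfsg.Agent.Lib.Chev.E6Fi22.Four
import Cfsg.Agent.Lib.Chev.E6Fi22.Checks
import Cfsg.Agent.Lib.CosetEnum.Relations
import Cfsg.Agent.S1696

set_option autoImplicit false
set_option linter.unusedSectionVars false
set_option maxRecDepth 100000

namespace CfsgLib.Chev.E6Fi22

open Cfsg.Lie Matrix
open CfsgLib.CosetEnum (presFi22)

/-- An element squaring to one as a unit. -/
def sunit {α : Type*} [Monoid α] (a : α) (h : a * a = 1) : αˣ := ⟨a, a, h, h⟩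

theorem eval_one (tbl : List (List ℕ)) (x : ℕ) : evalW tbl [x] = mat (tbl.getD x []) := by simp [evalW]

theorem eval_two (tbl : List (List ℕ)) (x : ℕ) :
    evalW tbl [x, x] = mat (tbl.getD x []) * mat (tbl.getD x []) := by simp [evalW]

/-- A matrix of a table, the identity outside it. -/
noncomputable def matOf (tbl : List (List ℕ)) (x : ℕ) : Matrix (Fin 78) (Fin 78) (ZMod 2) :=
  if x < tbl.length then mat (tbl.getD x []) else 1

theorem matOf_prod (tbl : List (List ℕ)) (w : List ℕ) (hw : ∀ x ∈ w, x < tbl.length) :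
    (w.map (matOf tbl)).prod = evalW tbl w :=
  congrArg List.prod (List.map_congr_left fun x hx => if_pos (hw x hx))

theorem gen_sq' (x : ℕ) : matOf genRows x * matOf genRows x = 1 := by
  by_cases hx : x < genRows.length
  · rw [matOf, if_pos hx, ← eval_two]
    refine okOne_spec genRows_ok (by simp [hx]) ?_
    exact allN_iff.mp gen_sq x (by rw [sizes.1] at hx; exact hx)
  · rw [matOf, if_neg hx, one_mul]

theorem inv_sq' (x : ℕ) : matOf invRows x * matOf invRows x = 1 := by
  by_cases hx : x < invRows.length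
  · rw [matOf, if_pos hx, ← eval_two]
    refine okOne_spec invRows_ok (by simp [hx]) ?_
    exact allN_iff.mp inv_sq x (by rw [sizes.2.2.1] at hx; exact hx)
  · rw [matOf, if_neg hx, one_mul]

/-- The generators as units. -/
noncomputable def gu (x : ℕ) : GL (Fin 78) (ZMod 2) := sunit (matOf genRows x) (gen_sq' x)

/-- The involutions as units. -/
noncomputable def iu (x : ℕ) : GL (Fin 78) (ZMod 2) := sunit (matOf invRows x) (inv_sq' x)

theorem units_prod (f : ℕ → GL (Fin 78) (ZMod 2)) (w : List ℕ) :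
    (((w.map f).prod : GL (Fin 78) (ZMod 2)) : Matrix (Fin 78) (Fin 78) (ZMod 2)) =
      (w.map fun x => (f x : Matrix (Fin 78) (Fin 78) (ZMod 2))).prod := by
  induction w with
  | nil => rfl
  | cons a w ih => rw [List.map_cons, List.prod_cons, Units.val_mul, ih, List.map_cons, List.prod_cons]

theorem iu_eq (k : ℕ) (hk : k < 9) : iu k = ((invWords.getD k []).map gu).prod := by
  refine Units.ext ?_
  rw [units_prod]
  show matOf invRows k = ((invWords.getD k []).map (matOf genRows)).prod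
  have hlt : ∀ x ∈ invWords.getD k [], x < genRows.length := fun x hx => sizes.1 ▸ invWords_lt k hk x hx
  rw [matOf_prod _ _ hlt, matOf, if_pos (sizes.2.2.1 ▸ hk)]
  exact (okEq_spec genRows_ok hlt (allN_iff.mp inv_eq k hk)).symm

theorem exists_bit_hom : ∃ φ : presFi22.Grp →* GL (Fin 78) (ZMod 2), ∀ x < 9, φ (presFi22.σ x) = iu x := by
  have : Finite (GL (Fin 78) (ZMod 2)) := @Finite.of_injective _ (Matrix (Fin 78) (Fin 78) (ZMod 2))
    (@Pi.finite _ _ _ fun _ => @Pi.finite _ _ _ fun _ => inferInstance) Units.val Units.val_injective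
  refine CfsgLib.CosetEnum.Pres.exists_hom presFi22 iu (fun x => Units.ext (inv_sq' x)) (fun w hw => ?_) (by decide)
  have h := List.all_eq_true.mp rels_ok w hw
  simp only [Bool.and_eq_true, List.all_eq_true] at h
  have hlt : ∀ x ∈ w, x < invRows.length := fun x hx => sizes.2.2.1 ▸ Nat.blt_eq.mp (h.1 x hx)
  refine Units.ext ?_
  rw [units_prod]
  show (w.map (matOf invRows)).prod = 1
  rw [matOf_prod _ _ hlt]
  exact okOne_spec invRows_ok hlt h.2

theorem iu_ne : iu 0 ≠ 1 := fun h => by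
  have h1 : mat (invRows.getD 0 []) = 1 := by
    have := congrArg Units.val h
    rw [Units.val_one] at this
    rw [← this]
    show _ = matOf invRows 0
    rw [matOf, if_pos (by rw [sizes.2.2.1]; norm_num)]
  have h2 := congrArg (fun M => M (0 : Fin 78) (0 : Fin 78)) h1
  have h3 : bit ((invRows.getD 0 []).getD 0 0) 0 = 0 := by decide +kernel
  simp only [Matrix.one_apply_eq] at h2
  exact zero_ne_one (h3.symm.trans h2)

/-- The element with one-dimensional kernel. -/
noncomputable def algM : Matrix (Fin 78) (Fin 78) (ZMod 2) := (algTerms.map (evalW invRows)).sum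

theorem algM_eq : algM = mat algRows := by
  refine ext_rows fun i => ?_
  rw [algM, vec_runSum invRows_ok algTerms fun w hw x hx => by rw [sizes.2.2.1]; exact (algTerms_lt w hw x hx).2,
    vec_basis, Matrix.single_one_vecMul]
  exact congrArg vec (Nat.eq_of_beq_eq_true (allN_iff.mp alg_eq i i.2))

theorem quasi_eq : mat algRows * mat quasiRows = 1 + Matrix.vecMulVec (vec coVec) (vec kerVec) := by
  refine ext_rows fun i => ?_
  rw [vec_basis, ← Matrix.vecMul_vecMul, Matrix.single_one_vecMul, Matrix.single_one_vecMul]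
  show vec (algRows.getD i 0) ᵥ* mat quasiRows = _
  rw [vec_app small_lengths.2.1, Nat.eq_of_beq_eq_true (allN_iff.mp alg_quasi i i.2)]
  funext j
  show bit (2 ^ (i : ℕ) ^^^ (coVec / 2 ^ (i : ℕ) % 2 * kerVec)) j =
    (1 + Matrix.vecMulVec (vec coVec) (vec kerVec)) i j
  rw [bit_xor, bit_mod_mul, Matrix.add_apply, Matrix.vecMulVec_apply]
  congr 1
  · have := congrFun (vec_basis i) j
    simp only [vec] at this
    rw [this]
    rcases eq_or_ne i j with rfl | h <;> simp [*, Ne.symm]
  · show bit (coVec / 2 ^ (i : ℕ)) 0 * bit kerVec j = bit coVec i * bit kerVec j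
    rw [bit_eq coVec i, bit_eq (coVec / 2 ^ (i : ℕ)) 0, pow_zero, Nat.div_one]

theorem ker_eq : vec kerVec ᵥ* algM = 0 := by
  rw [algM_eq, vec_app small_lengths.1, Nat.eq_of_beq_eq_true alg_ker]
  funext j
  simp [vec, bit]

theorem spin_vec (k : Fin 78) :
    vec kerVec ᵥ* evalW invRows (spinWords.getD k []) = vec (spinRows.getD k 0) := by
  have hmem : spinWords.getD k [] ∈ spinWords := by
    rw [List.getD_eq_getElem _ _ (by rw [sizes.2.2.2.2]; exact k.2)]
    exact List.getElem_mem _
  rw [vec_run invRows_ok _ fun x hx => by rw [sizes.2.2.1]; exact (spinWords_lt _ hmem x hx).2]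
  exact congrArg vec (Nat.eq_of_beq_eq_true (allN_iff.mp spin_eq k k.2))

attribute [local irreducible] appD runW

theorem spin_right : mat spinInvRows * mat spinRows = 1 := by
  refine (mul_eq_one_comm (a := mat spinRows) (b := mat spinInvRows)).mp (ext_rows fun i => ?_)
  rw [Matrix.vecMul_one, vec_basis, ← Matrix.vecMul_vecMul, Matrix.single_one_vecMul]
  show vec (spinRows.getD i 0) ᵥ* mat spinInvRows = _
  rw [vec_app small_lengths.2.2.2, Nat.eq_of_beq_eq_true (allN_iff.mp spin_inv i i.2), ]; exact vec_basis i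

attribute [local irreducible] algM

variable {K : Type*} [Field K] [CharP K 2]

set_option maxHeartbeats 1600000 in
theorem commutant {Y : Matrix (Fin 78) (Fin 78) K}
    (hY : ∀ x, 1 ≤ x → x < 9 → Y * (matOf invRows x).map (lift2 (K := K)) = (matOf invRows x).map (lift2 (K := K)) * Y) :
    ∃ a : K, Y = a • 1 := by
  set f := (lift2 (K := K)).mapMatrix (m := Fin 78) with hf
  have hw : ∀ w : List ℕ, (∀ x ∈ w, 1 ≤ x ∧ x < 9) → Commute Y (f (evalW invRows w)) := by
    intro w h
    rw [← matOf_prod invRows w fun x hx => sizes.2.2.1 ▸ (h x hx).2, map_list_prod]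
    refine Commute.list_prod_right _ _ fun z hz => ?_
    rw [List.map_map] at hz
    obtain ⟨x, hx, rfl⟩ := List.mem_map.mp hz
    exact hY x (h x hx).1 (h x hx).2
  have hA : Commute Y (f algM) := by
    rw [algM, map_list_sum]
    refine Commute.list_sum_right _ _ fun z hz => ?_
    rw [List.map_map] at hz
    obtain ⟨w, hw', rfl⟩ := List.mem_map.mp hz
    exact hw w (algTerms_lt w hw')
  let v : Fin 78 → K := fun j => lift2 (vec kerVec j)
  let c : Fin 78 → K := fun j => lift2 (vec coVec j)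
  have hmv : ∀ (u : Fin 78 → ZMod 2) (M : Matrix (Fin 78) (Fin 78) (ZMod 2)),
      (fun j => lift2 (K := K) (u j)) ᵥ* f M = fun j => lift2 ((u ᵥ* M) j) := fun u M =>
    funext fun j => (RingHom.map_vecMul (lift2 (K := K)) M u j).symm
  have hq : f algM * f (mat quasiRows) = 1 + Matrix.vecMulVec c v := by
    rw [← map_mul, algM_eq, quasi_eq, map_add, map_one]
    congr 1
    ext i j
    simp [hf, Matrix.vecMulVec_apply, c, v]
  have hv : v ᵥ* f algM = 0 := by
    rw [hmv, ker_eq]
    funext j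
    simp
  have h0 : (v ᵥ* Y) ᵥ* f algM = 0 := by
    rw [Matrix.vecMul_vecMul, hA.eq, ← Matrix.vecMul_vecMul, hv, Matrix.zero_vecMul]
  have h1 : v ᵥ* Y + (v ᵥ* Y) ᵥ* Matrix.vecMulVec c v = 0 := by
    rw [← Matrix.vecMul_one (v ᵥ* Y), Matrix.vecMul_vecMul _ 1, one_mul, ← Matrix.vecMul_add, ← hq,
      ← Matrix.vecMul_vecMul, h0, Matrix.zero_vecMul]
  obtain ⟨a, ha⟩ : ∃ a : K, v ᵥ* Y = a • v := by
    refine ⟨-((v ᵥ* Y) ⬝ᵥ c), ?_⟩
    rw [Matrix.vecMul_vecMulVec] at h1
    rw [neg_smul]
    exact eq_neg_of_add_eq_zero_left h1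
  refine ⟨a, ?_⟩
  have hS : f (mat spinRows) * Y = a • f (mat spinRows) := by
    funext k
    have e : (fun j => lift2 (K := K) (vec (spinRows.getD k 0) j)) = f (mat spinRows) k := rfl
    have hmem : spinWords.getD k [] ∈ spinWords := by
      rw [List.getD_eq_getElem _ _ (by rw [sizes.2.2.2.2]; exact k.2)]
      exact List.getElem_mem _
    have hk : f (mat spinRows) k = v ᵥ* f (evalW invRows (spinWords.getD k [])) := by
      rw [← e, hmv, spin_vec]
    show f (mat spinRows) k ᵥ* Y = a • f (mat spinRows) k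
    rw [hk, Matrix.vecMul_vecMul, ← (hw _ (spinWords_lt _ hmem)).eq, ← Matrix.vecMul_vecMul, ha,
      Matrix.smul_vecMul]
  have hI : f (mat spinInvRows) * f (mat spinRows) = 1 := by rw [← map_mul, spin_right, map_one]
  calc Y = f (mat spinInvRows) * (f (mat spinRows) * Y) := by rw [← mul_assoc, hI, one_mul]
    _ = a • 1 := by rw [hS, Matrix.mul_smul, hI]

set_option maxHeartbeats 1600000 in
/-- The embedding. -/
theorem exists_embedding [Fintype K] (hK : Fintype.card K = 2 ^ 2) :
    ∃ φ : presFi22.Grp →* GL Cfsg.Lie.chevE6.Idx K, Function.Injective φ ∧ φ.range ≤ twistedE6 K 2 ∧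
      ∀ Y : GL Cfsg.Lie.chevE6.Idx K,
        (∀ x, 1 ≤ x → x < 9 → Y * φ (presFi22.σ x) = φ (presFi22.σ x) * Y) →
          ∃ a : K, (Y : Matrix Cfsg.Lie.chevE6.Idx Cfsg.Lie.chevE6.Idx K) = a • 1 := by
  classical
  obtain ⟨ω, hω0, hω1⟩ : ∃ w : K, w ≠ 0 ∧ w ≠ 1 := by
    have : 2 < (Finset.univ : Finset K).card := by rw [Finset.card_univ, hK]; norm_num
    obtain ⟨w, -, hw⟩ := Finset.exists_mem_notMem_of_card_lt_card (s := ({0, 1} : Finset K)) (t := Finset.univ)
      (lt_of_le_of_lt Finset.card_le_two this)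
    simp only [Finset.mem_insert, Finset.mem_singleton, not_or] at hw
    exact ⟨w, hw.1, hw.2⟩
  have hω : ω * ω = ω + 1 := by
    have h4 : ω ^ 4 = ω := by
      have := FiniteField.pow_card ω
      rwa [hK] at this
    have h2 : (2 : K) = 0 := CharTwo.two_eq_zero
    have : ω * (ω - 1) * (ω * ω + ω + 1) = 0 := by linear_combination h4
    rcases mul_eq_zero.mp this with q | q
    · exact absurd (mul_eq_zero.mp q) (not_or.mpr ⟨hω0, sub_ne_zero.mpr hω1⟩)
    · linear_combination q - (ω + 1) * h2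
  let Bm : Matrix (Fin 78) (Fin 78) K := toS ω baseTab
  let Bi : Matrix (Fin 78) (Fin 78) K := toS ω baseInvTab
  have hB : Bm * Bi = 1 := by
    refine Matrix.ext_of_single_vecMul fun i => ?_
    rw [← vecK_basis (ω := ω) i, ← Matrix.vecMul_vecMul, vec_appS hω _ base_lt.1, vec_appS hω _ base_lt.2,
      Matrix.vecMul_one]
    have := allN_iff.mp base_inv i i.2
    rw [force_eq] at this
    exact congrArg (vecK ω) (beq2_eq this)
  let Bu : GL (Fin 78) K := ⟨Bm, Bi, hB, mul_eq_one_comm.mp hB⟩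
  let R : GL (Fin 78) K →* GL Cfsg.Lie.chevE6.Idx K :=
    Units.map (Matrix.reindexAlgEquiv K K eI.symm : Matrix (Fin 78) (Fin 78) K →* Matrix Cfsg.Lie.chevE6.Idx _ K)
  let ψ : GL (Fin 78) (ZMod 2) →* GL Cfsg.Lie.chevE6.Idx K :=
    R.comp ((MulAut.conj Bu).toMonoidHom.comp (Units.map (lift2 (K := K)).mapMatrix.toMonoidHom))
  have hRinj : Function.Injective R :=
    Units.map_injective (Matrix.reindexAlgEquiv K K eI.symm).injective
  have hψ : Function.Injective ψ := hRinj.comp ((MulAut.conj Bu).injective.comp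
    (Units.map_injective (Matrix.map_injective (lift2 (K := K)).injective)))
  have hgen : ∀ k, ψ (gu k) ∈ twistedE6 K 2 := by
    intro k
    by_cases hk : k < 12
    swap
    · rw [show gu k = 1 from Units.ext (if_neg (by rwa [sizes.1])), map_one]
      exact one_mem _
    set w := genWords.getD k [] with hw
    have hwm : w ∈ genWords := by
      rw [hw, List.getD_eq_getElem _ _ (by rwa [sizes.2.1])]
      exact List.getElem_mem _
    have e6 : (w.map fun e => (e.1, val ω e.2)) ∈ e6Words K 2 := by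
      have v1 : val ω 1 = 1 := by simp [val, bit, Nat.testBit_succ]
      have v2 : val ω 2 = ω := by simp [val, bit, Nat.testBit_succ]
      have v3 : val ω 3 = ω ^ 2 := by
        have := val_sq hω 2 (by norm_num)
        rwa [v2, show sq4 2 = 3 from rfl] at this
      have hl : genWords = [[(46, 1)], [(25, 1)], [(39, 1)], [(32, 1)], [(56, 1), (36, 1)], [(56, 2), (36, 3)],
          [(15, 1), (35, 1)], [(15, 2), (35, 3)], [(42, 1), (37, 1)], [(42, 2), (37, 3)], [(29, 1), (34, 1)],
          [(29, 2), (34, 3)]] := rfl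
      rw [hl] at hwm
      simp only [List.mem_cons, List.not_mem_nil, or_false] at hwm
      rcases hwm with q | q | q | q | q | q | q | q | q | q | q | q <;> rw [q] <;>
        simp only [List.map_cons, List.map_nil, v1, v2, v3]
      · exact Or.inl ⟨1, one_pow _, e6p2, by simp, rfl⟩
      · exact Or.inl ⟨1, one_pow _, e6m2, by simp, rfl⟩
      · exact Or.inl ⟨1, one_pow _, e6p4, by simp, rfl⟩
      · exact Or.inl ⟨1, one_pow _, e6m4, by simp, rfl⟩
      · exact Or.inr ⟨1, (e6p1, e6p6), by simp, by rw [one_pow]; rfl⟩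
      · exact Or.inr ⟨ω, (e6p1, e6p6), by simp, rfl⟩
      · exact Or.inr ⟨1, (e6m1, e6m6), by simp, by rw [one_pow]; rfl⟩
      · exact Or.inr ⟨ω, (e6m1, e6m6), by simp, rfl⟩
      · exact Or.inr ⟨1, (e6p3, e6p5), by simp, by rw [one_pow]; rfl⟩
      · exact Or.inr ⟨ω, (e6p3, e6p5), by simp, rfl⟩
      · exact Or.inr ⟨1, (e6m3, e6m5), by simp, by rw [one_pow]; rfl⟩
      · exact Or.inr ⟨ω, (e6m3, e6m5), by simp, rfl⟩
    refine Subgroup.subset_closure ⟨_, e6, ?_⟩
    have hrun : ∀ e ∈ w, e.1 ∈ usedRoots ∧ e.2 < 4 := genWords_ok w hwm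
    set W := Cfsg.Lie.chevE6.wordMat K (w.map fun e => (e.1, val ω e.2)) with hW
    have key : Matrix.reindexAlgEquiv K K eI W * Bm = Bm * (mat (genRows.getD k [])).map (lift2 (K := K)) := by
      refine Matrix.ext_of_single_vecMul fun i => ?_
      rw [← vecK_basis (ω := ω) i, ← Matrix.vecMul_vecMul, ← Matrix.vecMul_vecMul, hW, vec_runX hω w hrun,
        vec_appS hω _ base_lt.1, vec_appS hω _ base_lt.1, vecK_bits _ (genRows_ok k (by rwa [sizes.1]))]
      have := allN_iff.mp (gen_ok k hk) i i.2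
      rw [force_eq] at this
      exact congrArg (vecK ω) (beq2_eq this)
    show Matrix.reindexAlgEquiv K K eI.symm (Bm * (matOf genRows k).map (lift2 (K := K)) * Bi) = W
    rw [matOf, if_pos (by rwa [sizes.1]), ← key, mul_assoc, hB, mul_one]
    ext a b
    simp
  obtain ⟨φ0, hφ0⟩ := exists_bit_hom
  refine ⟨ψ.comp φ0, ?_, ?_, ?_⟩
  · have : IsSimpleGroup presFi22.Grp := Cfsg.Agent.S1696.result.1
    refine hψ.comp ?_
    rw [← MonoidHom.ker_eq_bot_iff]
    refine (φ0.normal_ker.eq_bot_or_eq_top).resolve_right fun htop => iu_ne ?_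
    rw [← hφ0 0 (by norm_num)]
    exact MonoidHom.mem_ker.mp (htop ▸ Subgroup.mem_top _)
  · rintro _ ⟨z, rfl⟩
    have hgenG : ∀ a, PresentedGroup.of a ∈ ((twistedE6 K 2).comap (ψ.comp φ0)) := fun a => by
      rw [Subgroup.mem_comap, ← CfsgLib.CosetEnum.Pres.σ_idx presFi22 a, MonoidHom.comp_apply,
        hφ0 _ (presFi22.idx_spec a).1, iu_eq _ (presFi22.idx_spec a).1, map_list_prod]
      refine Subgroup.list_prod_mem _ fun y hy => ?_
      rw [List.map_map] at hy
      obtain ⟨k, -, rfl⟩ := List.mem_map.mp hy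
      exact hgen k
    exact PresentedGroup.generated_by _ _ hgenG z
  · intro Y hY
    obtain ⟨Y', rfl⟩ : ∃ Y' : GL (Fin 78) K, R (Bu * Y' * Bu⁻¹) = Y := by
      obtain ⟨Y1, hY1⟩ : ∃ Y1, R Y1 = Y :=
        ⟨Units.map (Matrix.reindexAlgEquiv K K eI : Matrix _ _ K →* Matrix (Fin 78) (Fin 78) K) Y,
          Units.ext (by ext a b; simp [R])⟩
      exact ⟨Bu⁻¹ * Y1 * Bu, by rw [← hY1]; congr 1; group⟩
    obtain ⟨a, ha⟩ := commutant (Y := (Y' : Matrix (Fin 78) (Fin 78) K)) fun x h1 h9 => by
      have := hY x h1 h9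
      rw [MonoidHom.comp_apply, hφ0 x h9] at this
      set U : GL (Fin 78) K := Units.map (lift2 (K := K)).mapMatrix.toMonoidHom (iu x)
      have h' : R (Bu * Y' * Bu⁻¹) * R (Bu * U * Bu⁻¹) = R (Bu * U * Bu⁻¹) * R (Bu * Y' * Bu⁻¹) := this
      rw [← map_mul, ← map_mul] at h'
      have h'' := hRinj h'
      have : Y' * U = U * Y' := by
        calc Y' * U = Bu⁻¹ * (Bu * Y' * Bu⁻¹ * (Bu * U * Bu⁻¹)) * Bu := by group
          _ = U * Y' := by rw [h'']; group
      exact congrArg Units.val this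
    refine ⟨a, ?_⟩
    show Matrix.reindexAlgEquiv K K eI.symm (Bm * (Y' : Matrix (Fin 78) (Fin 78) K) * Bi) = _
    rw [ha, Matrix.mul_smul, Matrix.mul_one, Matrix.smul_mul, hB, map_smul, map_one]

end CfsgLib.Chev.E6Fi22
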