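/-
Three classes of Fi22 and of Omega(7, 3) in the twisted group of type E6 over the field of four elements.
-/
import Cfsg.Agent.Lib.Chev.E6Fi22.Main
import Cfsg.Agent.Lib.Chev.E6Fi22.Classes
import Cfsg.Agent.Lib.OrthAut.Odd
import Cfsg.Agent.Lib.PrimeGraphBC.Main
import Cfsg.Agent.S2079
import Cfsg.Agent.S1686

set_option autoImplicit false
set_option linter.unusedSectionVars false
set_option maxRecDepth 100000

namespace CfsgLib.Chev.E6Fi22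

open Cfsg.Lie Matrix
open CfsgLib.CosetEnum (presFi22)

theorem sq_inner {P M : Type*} [Group P] [Group M] (e : P ≃* M) (h : Nat.card (Cfsg.Out M) = 2) (α : MulAut P) :
    ∃ g : P, α * α = MulAut.conj g := by
  let β : MulAut M := e.symm.trans (α.trans e)
  have hidx : (Cfsg.Inn M).index = 2 := by rw [Subgroup.index_eq_card]; exact h
  obtain ⟨m, hm⟩ := (Cfsg.Inn M).mul_self_mem_of_index_two hidx β
  refine ⟨e.symm m, MulEquiv.ext fun x => e.injective ?_⟩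
  have := DFunLike.congr_fun hm (e x)
  simp only [MulAut.conj_apply, MulAut.mul_apply, β, MulEquiv.trans_apply, MulEquiv.symm_apply_apply] at this
  simp [MulAut.mul_apply, ← this]

theorem out_omega7 : Nat.card (Cfsg.Out (Cfsg.POmega (ZMod 3) (Cfsg.quadFormOdd 3 (ZMod 3)))) = 2 := by
  have : Fact (Nat.Prime 3) := ⟨Nat.prime_three⟩
  have h2 : (2 : ZMod 3) ≠ 0 := by decide +revert
  obtain ⟨e⟩ := CfsgLib.OrthAut.out_odd (F := ZMod 3) (m := 3) h2 le_rfl (p := 3) (f := 1) (by simp)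
  rw [← CfsgLib.OrthAut.Qo_eq (K := ZMod 3) 3, Nat.card_congr e.toEquiv]
  simp

theorem omega7_equiv :
    Nonempty (Cfsg.POmega (ZMod 3) (Cfsg.quadFormOdd 3 (ZMod 3)) ≃*
      Cfsg.Omega (ZMod 3) (Cfsg.quadFormOdd 3 (ZMod 3))) := by
  have : Fact (Nat.Prime 3) := ⟨Nat.prime_three⟩
  rw [← CfsgLib.OrthAut.Qo_eq (K := ZMod 3) 3]
  exact ⟨(QuotientGroup.quotientMulEquivOfEq
    (CfsgLib.PrimeGraphBC.omega_center_bot (F := ZMod 3) (n := 3) (by decide +revert) (by norm_num))).trans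
      QuotientGroup.quotientBot⟩

variable {K : Type*} [Field K] [Fintype K] [CharP K 2]

theorem fi22_classes (hK : Fintype.card K = 2 ^ 2) :
    ∃ H : Fin 3 → Subgroup (twistedE6 K 2), (∀ i, Nonempty ((H i) ≃* Cfsg.Spor.Fi22)) ∧
      (∀ i j, i ≠ j → ∀ g : (twistedE6 K 2), (H i).map (MulAut.conj g).toMonoidHom ≠ H j) := by
  obtain ⟨φ, hφ, hle, hcent⟩ := exists_embedding hK
  let P : Subgroup (twistedE6 K 2) := φ.range.subgroupOf (twistedE6 K 2)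
  let e : P ≃* presFi22.Grp := (Subgroup.subgroupOfEquivOfLe hle).trans (MonoidHom.ofInjective hφ).symm
  obtain ⟨H, hH, hne⟩ := three_of_subgroup hK P
    (fun Y hY => hcent Y fun x _ _ => hY ⟨_, hle ⟨_, rfl⟩⟩ ⟨_, rfl⟩)
    (sq_inner e Cfsg.Agent.S2079.result)
  exact ⟨H, fun i => (hH i).map fun a => a.trans e, hne⟩

theorem o7_classes (hK : Fintype.card K = 2 ^ 2) :
    ∃ H : Fin 3 → Subgroup (twistedE6 K 2),
      (∀ i, Nonempty ((H i) ≃* Cfsg.Omega (ZMod 3) (Cfsg.quadFormOdd 3 (ZMod 3)))) ∧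
      (∀ i j, i ≠ j → ∀ g : (twistedE6 K 2), (H i).map (MulAut.conj g).toMonoidHom ≠ H j) := by
  obtain ⟨φ, hφ, hle, hcent⟩ := exists_embedding hK
  obtain ⟨e0⟩ := Cfsg.Agent.S1686.result
  let W : Subgroup presFi22.Grp := ((Subgroup.closure ({Cfsg.Spor.Fi22.b, Cfsg.Spor.Fi22.c, Cfsg.Spor.Fi22.d,
    Cfsg.Spor.Fi22.e, Cfsg.Spor.Fi22.f, Cfsg.Spor.Fi22.g, Cfsg.Spor.Fi22.h, Cfsg.Spor.Fi22.i} :
      Set (FreeGroup Cfsg.Spor.Fi22.Gen))).map (PresentedGroup.mk (Cfsg.Spor.coxRelators Cfsg.Spor.Fi22.edges ∪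
        {r | r ∈ Cfsg.Spor.Fi22.extra})))
  let P : Subgroup (twistedE6 K 2) := (W.map φ).subgroupOf (twistedE6 K 2)
  have hle' : W.map φ ≤ twistedE6 K 2 := (Subgroup.map_le_range _ _).trans hle
  let e : P ≃* Cfsg.POmega (ZMod 3) (Cfsg.quadFormOdd 3 (ZMod 3)) :=
    (Subgroup.subgroupOfEquivOfLe hle').trans ((Subgroup.equivMapOfInjective W φ hφ).symm.trans e0)
  have hσ : ∀ x, 1 ≤ x → x < 9 → presFi22.σ x ∈ W := by
    intro x h1 h9
    rw [CfsgLib.CosetEnum.Pres.σ, if_pos h9]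
    refine ⟨FreeGroup.of (presFi22.gen x), Subgroup.subset_closure ?_, rfl⟩
    interval_cases x <;>
      simp [Cfsg.Spor.Fi22.b, Cfsg.Spor.Fi22.c, Cfsg.Spor.Fi22.d, Cfsg.Spor.Fi22.e, Cfsg.Spor.Fi22.f,
        Cfsg.Spor.Fi22.g, Cfsg.Spor.Fi22.h, Cfsg.Spor.Fi22.i]
  obtain ⟨H, hH, hne⟩ := three_of_subgroup hK P
    (fun Y hY => hcent Y fun x h1 h9 => hY ⟨_, hle ⟨_, rfl⟩⟩ ⟨_, hσ x h1 h9, rfl⟩)
    (sq_inner e out_omega7)
  obtain ⟨e'⟩ := omega7_equiv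
  exact ⟨H, fun i => (hH i).map fun a => (a.trans e).trans e', hne⟩

end CfsgLib.Chev.E6Fi22
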